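/-
Orbit tables for the centraliser certificates.
-/
import Cfsg.Agent.Lib.BNSt.CentChk
import Cfsg.Agent.Lib.Chev.T3F4
import Cfsg.Agent.Lib.Chev.T3G2

set_option autoImplicit false
set_option maxRecDepth 100000

namespace Cfsg.Agent.Lib.BNSt

open Cfsg Cfsg.Lie Cfsg.Agent.Lib.Chev

/-- The Weyl orbit of the ordered pair (39, 45) in type F₄. -/
def orbF4a : List (List ℕ) :=
  [[39,45],[3,15],[3,16],[3,17],[3,21],[3,22],[3,23],[3,24],[3,25],[3,26],[3,30],[3,31],[3,32],[7,4],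
  [7,5],[7,6],[7,21],[7,22],[7,23],[7,24],[7,25],[7,26],[7,41],[7,42],[7,43],[8,2],[8,5],[8,6],[8,16],
  [8,17],[8,23],[8,24],[8,30],[8,31],[8,41],[8,42],[8,45],[9,1],[9,4],[9,6],[9,15],[9,17],[9,21],
  [9,26],[9,30],[9,32],[9,41],[9,43],[9,46],[10,0],[10,4],[10,5],[10,15],[10,16],[10,22],[10,25],
  [10,31],[10,32],[10,42],[10,43],[10,47],[11,1],[11,2],[11,6],[11,15],[11,16],[11,22],[11,25],
  [11,31],[11,32],[11,41],[11,45],[11,46],[12,0],[12,2],[12,5],[12,15],[12,17],[12,21],[12,26],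
  [12,30],[12,32],[12,42],[12,45],[12,47],[13,0],[13,1],[13,4],[13,16],[13,17],[13,23],[13,24],
  [13,30],[13,31],[13,43],[13,46],[13,47],[14,0],[14,1],[14,2],[14,21],[14,22],[14,23],[14,24],
  [14,25],[14,26],[14,45],[14,46],[14,47],[18,1],[18,2],[18,4],[18,5],[18,17],[18,22],[18,25],[18,30],
  [18,42],[18,43],[18,45],[18,46],[19,0],[19,2],[19,4],[19,6],[19,16],[19,21],[19,26],[19,31],[19,41],
  [19,43],[19,45],[19,47],[20,0],[20,1],[20,5],[20,6],[20,15],[20,23],[20,24],[20,32],[20,41],[20,42],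
  [20,46],[20,47],[27,0],[27,1],[27,5],[27,6],[27,15],[27,23],[27,24],[27,32],[27,41],[27,42],[27,46],
  [27,47],[28,0],[28,2],[28,4],[28,6],[28,16],[28,21],[28,26],[28,31],[28,41],[28,43],[28,45],[28,47],
  [29,1],[29,2],[29,4],[29,5],[29,17],[29,22],[29,25],[29,30],[29,42],[29,43],[29,45],[29,46],[33,0],
  [33,1],[33,2],[33,21],[33,22],[33,23],[33,24],[33,25],[33,26],[33,45],[33,46],[33,47],[34,0],[34,1],
  [34,4],[34,16],[34,17],[34,23],[34,24],[34,30],[34,31],[34,43],[34,46],[34,47],[35,0],[35,2],[35,5],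
  [35,15],[35,17],[35,21],[35,26],[35,30],[35,32],[35,42],[35,45],[35,47],[36,1],[36,2],[36,6],
  [36,15],[36,16],[36,22],[36,25],[36,31],[36,32],[36,41],[36,45],[36,46],[37,0],[37,4],[37,5],
  [37,15],[37,16],[37,22],[37,25],[37,31],[37,32],[37,42],[37,43],[37,47],[38,1],[38,4],[38,6],
  [38,15],[38,17],[38,21],[38,26],[38,30],[38,32],[38,41],[38,43],[38,46],[39,2],[39,5],[39,6],
  [39,16],[39,17],[39,23],[39,24],[39,30],[39,31],[39,41],[39,42],[40,4],[40,5],[40,6],[40,21],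
  [40,22],[40,23],[40,24],[40,25],[40,26],[40,41],[40,42],[40,43],[44,15],[44,16],[44,17],[44,21],
  [44,22],[44,23],[44,24],[44,25],[44,26],[44,30],[44,31],[44,32]]

/-- The Weyl orbit of the ordered pair (47, 44) in type F₄. -/
def orbF4b : List (List ℕ) :=
  [[47,44],[0,3],[0,7],[0,8],[0,9],[0,11],[0,18],[1,3],[1,7],[1,8],[1,10],[1,12],[1,19],[2,3],[2,7],
  [2,9],[2,10],[2,13],[2,20],[4,3],[4,8],[4,11],[4,12],[4,14],[4,27],[5,3],[5,9],[5,11],[5,13],[5,14],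
  [5,28],[6,3],[6,10],[6,12],[6,13],[6,14],[6,29],[15,7],[15,8],[15,18],[15,19],[15,33],[15,34],
  [16,7],[16,9],[16,18],[16,20],[16,33],[16,35],[17,7],[17,10],[17,19],[17,20],[17,33],[17,36],[21,8],
  [21,11],[21,18],[21,27],[21,34],[21,37],[22,8],[22,12],[22,19],[22,27],[22,34],[22,38],[23,9],
  [23,11],[23,18],[23,28],[23,35],[23,37],[24,10],[24,12],[24,19],[24,29],[24,36],[24,38],[25,9],
  [25,13],[25,20],[25,28],[25,35],[25,39],[26,10],[26,13],[26,20],[26,29],[26,36],[26,39],[30,11],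
  [30,14],[30,27],[30,28],[30,37],[30,40],[31,12],[31,14],[31,27],[31,29],[31,38],[31,40],[32,13],
  [32,14],[32,28],[32,29],[32,39],[32,40],[41,18],[41,33],[41,34],[41,35],[41,37],[41,44],[42,19],
  [42,33],[42,34],[42,36],[42,38],[42,44],[43,20],[43,33],[43,35],[43,36],[43,39],[43,44],[45,27],
  [45,34],[45,37],[45,38],[45,40],[45,44],[46,28],[46,35],[46,37],[46,39],[46,40],[46,44],[47,29],
  [47,36],[47,38],[47,39],[47,40]]

/-- The Weyl orbit of the root 9 in type G₂. -/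
def orbG2a : List (List ℕ) :=
  [[9],[2],[3],[4],[7],[8]]

/-- The Weyl orbit of the root 11 in type G₂. -/
def orbG2b : List (List ℕ) :=
  [[11],[0],[1],[5],[6],[10]]

set_option maxHeartbeats 0

theorem cgF4a1 : ChkCG1 digF4.tbl [39, 45] [39, 40, 44, 45, 46, 47] := by decide +kernel
theorem cgF4a2 : ChkCG2 digF4.tbl [39, 45] [39, 40, 44, 45, 46, 47] [(27, 39, 40), (34, 39, 44), (25, 45, 46), (26, 45, 47)] := by decide +kernel
theorem cgF4a3 : ChkCG3 digF4.tbl [39, 45] [(27, 39, 40), (34, 39, 44), (25, 45, 46), (26, 45, 47)] [0, 3] := by decide +kernel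
theorem cgF4a4 : ChkCG4 digF4.tbl [39, 45] [39, 40, 44, 45, 46, 47] orbF4a := by decide +kernel
theorem cgF4a5 : ChkCG5 digF4.tbl [39, 45] [0, 3] (fun s => if s = 39 then 2 else 3)
    (fun i s => if i = 2 ∧ s = 39 then 2 else 1) := by decide +kernel

theorem cgF4b1 : ChkCG1 digF4.tbl [47, 44] [47, 44] := by decide +kernel
theorem cgF4b2 : ChkCG2 digF4.tbl [47, 44] [47, 44] [] := by decide +kernel
theorem cgF4b3 : ChkCG3 digF4.tbl [47, 44] [] [1, 2] := by decide +kernel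
theorem cgF4b4 : ChkCG4 digF4.tbl [47, 44] [47, 44] orbF4b := by decide +kernel
theorem cgF4b5 : ChkCG5 digF4.tbl [47, 44] [1, 2] (fun _ => 1)
    (fun i s => if (i = 0 ∧ s = 44) ∨ (i = 3 ∧ s = 47) then 1 else 0) := by decide +kernel

theorem cgG2a1 : ChkCG1 digG2.tbl [9] [9, 10, 11] := by decide +kernel
theorem cgG2a2 : ChkCG2 digG2.tbl [9] [9, 10, 11] [(7, 9, 10), (8, 9, 11)] := by decide +kernel
theorem cgG2a3 : ChkCG3 digG2.tbl [9] [(7, 9, 10), (8, 9, 11)] [1] := by decide +kernel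
theorem cgG2a4 : ChkCG4 digG2.tbl [9] [9, 10, 11] orbG2a := by decide +kernel
theorem cgG2a5 : ChkCG5 digG2.tbl [9] [1] (fun _ => 1) (fun _ _ => 1) := by decide +kernel

theorem cgG2b : chkCR digG2.tbl 11 1 = true := by decide +kernel

end Cfsg.Agent.Lib.BNSt
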